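import Groth.Agent.Sga7.H180.RootLoc

/-!
# Extracting roots of characters of a strictly henselian local ring

`A` a strictly henselian local `k`-algebra, `χ : M ⟶ A` a character with `χ m` in the maximal ideal for
`m ≠ 0`, `f : M ⟶ M'` a homomorphism of sharp monoids such that every element of `M'` has a positive multiple
in the image: `A ⊗_{k[M]} k[M']` is strictly henselian local (`exists_ring`, `hpt_ring`).
-/

set_option autoImplicit false
universe u

open CategoryTheory CategoryTheory.Limits AlgebraicGeometry IsLocalRing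
open scoped TensorProduct

namespace Groth.Agent.Sga7.H180.RootRing

open Groth.Agent.Sga7.H763 Groth.Agent.Sga4h.StalkAcyc Groth.Agent.Sga7.H180.RootLoc

variable (k : Type u) [Field k] {A : Type u} [CommRing A] [Algebra k A] {M M' : Type}
  [AddCommMonoid M] [AddCommMonoid M'] (χ : Multiplicative M →* A) (f : M →+ M')

/-- `A` as an algebra over `k[M]`. -/
noncomputable abbrev algA : Algebra (AddMonoidAlgebra k M) A := (Dia.mk k (algebraMap k A) χ).toAlgebra

/-- `k[M']` as an algebra over `k[M]`. -/
noncomputable abbrev algQ : Algebra (AddMonoidAlgebra k M) (AddMonoidAlgebra k M') :=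
  (Dia.rm k f).toAlgebra

theorem isIntegral_Q (hf : ∀ q : M', ∃ N : ℕ, 0 < N ∧ ∃ m, f m = N • q) :
    letI := algQ k f
    Algebra.IsIntegral (AddMonoidAlgebra k M) (AddMonoidAlgebra k M') := by
  letI := algQ k f
  refine ⟨fun x => ?_⟩
  induction x using AddMonoidAlgebra.induction_linear with
  | zero => exact isIntegral_zero
  | add f g hf hg => exact hf.add hg
  | single q r =>
    obtain ⟨N, hN, m, hm⟩ := hf q
    refine IsIntegral.of_pow hN ?_
    have : (AddMonoidAlgebra.single q r : AddMonoidAlgebra k M') ^ N =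
        algebraMap (AddMonoidAlgebra k M) _ (AddMonoidAlgebra.single m (r ^ N)) := by
      rw [AddMonoidAlgebra.single_pow, ← hm]
      exact (Dia.rm_single k f m _).symm
    rw [this]
    exact isIntegral_algebraMap

open Classical in
/-- The character `q ↦ [q = 0]` of a sharp monoid. -/
noncomputable def chi0 (hs : ∀ a b : M', a + b = 0 → a = 0) (κ : Type u) [Field κ] :
    Multiplicative M' →* κ where
  toFun q := if q.toAdd = 0 then 1 else 0
  map_one' := if_pos rfl
  map_mul' q q' := by
    have h : (q * q').toAdd = 0 ↔ q.toAdd = 0 ∧ q'.toAdd = 0 := by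
      rw [toAdd_mul]
      constructor
      · intro h
        exact ⟨hs _ _ h, hs _ _ ((add_comm _ _).trans h)⟩
      · rintro ⟨h1, h2⟩
        rw [h1, h2, add_zero]
    simp only [h]
    by_cases h1 : q.toAdd = 0 <;> by_cases h2 : q'.toAdd = 0 <;> simp [h1, h2]

theorem chi0_ne (hs : ∀ a b : M', a + b = 0 → a = 0) (κ : Type u) [Field κ] {q : M'} (h : q ≠ 0) :
    chi0 hs κ (Multiplicative.ofAdd q) = 0 := if_neg h

variable [IsLocalRing A] (hs : ∀ a b : M', a + b = 0 → a = 0) (h0 : ∀ m, f m = 0 → m = 0)
  (hχ : ∀ m, m ≠ 0 → χ (Multiplicative.ofAdd m) ∈ maximalIdeal A)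
  (hf : ∀ q : M', ∃ N : ℕ, 0 < N ∧ ∃ m, f m = N • q)

include hs h0 hχ in
theorem nontrivial_B :
    letI := algA k χ
    letI := algQ k f
    Nontrivial (A ⊗[AddMonoidAlgebra k M] AddMonoidAlgebra k M') := by
  letI := algA k χ
  letI := algQ k f
  let f' : A →ₐ[AddMonoidAlgebra k M] ResidueField A :=
    { residue A with commutes' := fun _ => rfl }
  have key : (Dia.mk k ((residue A).comp (algebraMap k A)) (chi0 hs (ResidueField A))).comp
      (Dia.rm k f) = (residue A).comp (Dia.mk k (algebraMap k A) χ) := by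
    apply Dia.hom_ext'
    · intro r
      simp only [RingHom.comp_apply, Dia.rm_single, map_zero, Dia.mk_single, ofAdd_zero, map_one,
        mul_one]
    · intro m
      simp only [RingHom.comp_apply, Dia.rm_single, Dia.mk_single, map_one, one_mul]
      by_cases hm : m = 0
      · subst hm
        rw [map_zero, ofAdd_zero, ofAdd_zero, map_one, map_one, map_one]
      · rw [chi0_ne _ _ (fun h => hm (h0 _ h))]
        exact ((residue_eq_zero_iff _).2 (hχ _ hm)).symm
  let g : AddMonoidAlgebra k M' →ₐ[AddMonoidAlgebra k M] ResidueField A :=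
    { Dia.mk k ((residue A).comp (algebraMap k A)) (chi0 hs (ResidueField A)) with
      commutes' := fun x => RingHom.congr_fun key x }
  exact (Algebra.TensorProduct.lift f' g (fun _ _ => Commute.all _ _)).toRingHom.domain_nontrivial

include hs hχ hf in
theorem exists_sub_mem :
    letI := algA k χ
    letI := algQ k f
    ∀ b : A ⊗[AddMonoidAlgebra k M] AddMonoidAlgebra k M', ∃ a : A,
      b - algebraMap A _ a ∈ Ideal.jacobson
        (⊥ : Ideal (A ⊗[AddMonoidAlgebra k M] AddMonoidAlgebra k M')) := by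
  letI := algA k χ
  letI := algQ k f
  have hint := isIntegral_Q k f hf
  intro b
  set J := Ideal.jacobson (⊥ : Ideal (A ⊗[AddMonoidAlgebra k M] AddMonoidAlgebra k M')) with hJ
  have hadd : ∀ b b' : A ⊗[AddMonoidAlgebra k M] AddMonoidAlgebra k M',
      (∃ a : A, b - algebraMap A _ a ∈ J) → (∃ a : A, b' - algebraMap A _ a ∈ J) →
      ∃ a : A, b + b' - algebraMap A _ a ∈ J := by
    rintro b b' ⟨a, ha⟩ ⟨a', ha'⟩
    refine ⟨a + a', ?_⟩
    rw [map_add, add_sub_add_comm]
    exact J.add_mem ha ha'
  have hmul : ∀ (a : A) (b : A ⊗[AddMonoidAlgebra k M] AddMonoidAlgebra k M'),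
      (∃ a : A, b - algebraMap A _ a ∈ J) → ∃ a' : A, algebraMap A _ a * b - algebraMap A _ a' ∈ J := by
    rintro a b ⟨a', ha⟩
    refine ⟨a * a', ?_⟩
    rw [map_mul, ← mul_sub]
    exact J.mul_mem_left _ ha
  have hQ : ∀ x : AddMonoidAlgebra k M',
      ∃ a : A, (1 : A) ⊗ₜ[AddMonoidAlgebra k M] x - algebraMap A _ a ∈ J := by
    intro x
    induction x using AddMonoidAlgebra.induction_linear with
    | zero =>
      refine ⟨0, ?_⟩
      rw [TensorProduct.tmul_zero, map_zero, sub_zero]
      exact J.zero_mem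
    | add f g hf hg =>
      rw [TensorProduct.tmul_add]
      exact hadd _ _ hf hg
    | single q r =>
      by_cases hq : q = 0
      · subst hq
        refine ⟨algebraMap k A r, ?_⟩
        have h1 : (AddMonoidAlgebra.single 0 r : AddMonoidAlgebra k M') =
            (AddMonoidAlgebra.single 0 r : AddMonoidAlgebra k M) • 1 := by
          rw [Algebra.smul_def, mul_one]
          have := Dia.rm_single k f 0 r
          rw [map_zero] at this
          exact this.symm
        have h2 : (AddMonoidAlgebra.single 0 r : AddMonoidAlgebra k M) • (1 : A) =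
            algebraMap k A r := by
          rw [Algebra.smul_def, mul_one]
          change Dia.mk k (algebraMap k A) χ _ = _
          rw [Dia.mk_single, ofAdd_zero, map_one, mul_one]
        rw [h1, TensorProduct.tmul_smul, TensorProduct.smul_tmul', h2]
        change algebraMap k A r ⊗ₜ 1 - algebraMap k A r ⊗ₜ 1 ∈ J
        rw [sub_self]
        exact J.zero_mem
      · refine ⟨0, ?_⟩
        rw [map_zero, sub_zero]
        obtain ⟨N, hN, m, hm⟩ := hf q
        have hm0 : m ≠ 0 := by
          rintro rfl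
          rw [map_zero] at hm
          obtain ⟨N', rfl⟩ : ∃ N', N = N' + 1 := ⟨N - 1, by omega⟩
          rw [succ_nsmul'] at hm
          exact hq (hs _ _ hm.symm)
        refine mem_jacobson_of_pow (A := A) (N := N) (b := algebraMap A _ (algebraMap k A (r ^ N)))
          (hχ m hm0) ?_
        rw [Algebra.TensorProduct.tmul_pow, one_pow, ← map_mul, AddMonoidAlgebra.single_pow, ← hm]
        have h1 : (AddMonoidAlgebra.single (f m) (r ^ N) : AddMonoidAlgebra k M') =
            (AddMonoidAlgebra.single m (r ^ N) : AddMonoidAlgebra k M) • 1 := by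
          rw [Algebra.smul_def, mul_one]
          exact (Dia.rm_single k f m _).symm
        have h2 : (AddMonoidAlgebra.single m (r ^ N) : AddMonoidAlgebra k M) • (1 : A) =
            χ (Multiplicative.ofAdd m) * algebraMap k A (r ^ N) := by
          rw [Algebra.smul_def, mul_one]
          change Dia.mk k (algebraMap k A) χ _ = _
          rw [Dia.mk_single, mul_comm]
        rw [h1, TensorProduct.tmul_smul, TensorProduct.smul_tmul', h2]
        rfl
  induction b using TensorProduct.induction_on with
  | zero =>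
    refine ⟨0, ?_⟩
    rw [map_zero, sub_zero]
    exact J.zero_mem
  | add x y hx hy => exact hadd _ _ hx hy
  | tmul a x =>
    have : a ⊗ₜ[AddMonoidAlgebra k M] x =
        algebraMap A (A ⊗[AddMonoidAlgebra k M] AddMonoidAlgebra k M') a *
          (1 : A) ⊗ₜ[AddMonoidAlgebra k M] x := by
      change _ = a ⊗ₜ 1 * 1 ⊗ₜ x
      rw [Algebra.TensorProduct.tmul_mul_tmul, mul_one, one_mul]
    rw [this]
    exact hmul _ _ (hQ x)

end Groth.Agent.Sga7.H180.RootRing

namespace Groth.Agent.Sga7.H180.RootRing

open Groth.Agent.Sga7.H763 Groth.Agent.Sga4h.StalkAcyc Groth.Agent.Sga7.H180.RootLoc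

/-- `Spec A ×_{k[M]} k[M']` is the spectrum of a strictly henselian local ring. -/
theorem exists_ring (k : Type u) [Field k] (A : Type u) [CommRing A] [HenselianLocalRing A]
    [IsSepClosed (ResidueField A)] [Algebra k A] {M M' : Type} [AddCommMonoid M] [AddCommMonoid M']
    (χ : Multiplicative M →* A) (f : M →+ M') (hs : ∀ a b : M', a + b = 0 → a = 0)
    (h0 : ∀ m, f m = 0 → m = 0) (hχ : ∀ m, m ≠ 0 → χ (Multiplicative.ofAdd m) ∈ maximalIdeal A)
    (hf : ∀ m' : M', ∃ N : ℕ, 0 < N ∧ ∃ m, f m = N • m') :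
    ∃ (B : Type u) (_ : CommRing B) (_ : IsLocalRing B) (_ : HenselianLocalRing B)
      (_ : IsSepClosed (ResidueField B)),
      Nonempty (pullback (ToD.toD k χ) (Dia.Dm k f) ≅ Spec (CommRingCat.of B)) := by
  letI := algA k χ
  letI := algQ k f
  have hint := isIntegral_Q k f hf
  have h1 := nontrivial_B k χ f hs h0 hχ
  have h2 := exists_sub_mem k χ f hs hχ hf
  have h3 : IsLocalRing (A ⊗[AddMonoidAlgebra k M] AddMonoidAlgebra k M') :=
    isLocalRing_of_jacobson (A := A) h2
  have h4 : IsSepClosed (ResidueField (A ⊗[AddMonoidAlgebra k M] AddMonoidAlgebra k M')) :=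
    isSepClosed_residue (A := A) h2
  have h5 : HenselianLocalRing (A ⊗[AddMonoidAlgebra k M] AddMonoidAlgebra k M') :=
    Groth.Agent.Etrest.IntHens.henselianLocalRing_of_isIntegral A _
  exact ⟨_, _, h3, h5, h4, ⟨pullbackSpecIso (AddMonoidAlgebra k M) A (AddMonoidAlgebra k M')⟩⟩

/-- `Spec A ×_{k[M]} k[M']` has the cohomology of a point. -/
theorem hpt_ring (k : Type u) [Field k] (A : Type u) [CommRing A] [HenselianLocalRing A]
    [IsSepClosed (ResidueField A)] [Algebra k A] {M M' : Type} [AddCommMonoid M] [AddCommMonoid M']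
    (χ : Multiplicative M →* A) (f : M →+ M') (hs : ∀ a b : M', a + b = 0 → a = 0)
    (h0 : ∀ m, f m = 0 → m = 0) (hχ : ∀ m, m ≠ 0 → χ (Multiplicative.ofAdd m) ∈ maximalIdeal A)
    (hf : ∀ m' : M', ∃ N : ℕ, 0 < N ∧ ∃ m, f m = N • m') (n : ℕ) :
    HPt (pullback (ToD.toD k χ) (Dia.Dm k f)) n := by
  obtain ⟨B, _, _, h, _, ⟨e⟩⟩ := exists_ring k A χ f hs h0 hχ hf
  exact HPt.of_iso e.symm (hpt_spec B n)

end Groth.Agent.Sga7.H180.RootRing
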