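import Groth.Agent.Sga7.H763.ToD
import Groth.Agent.Sga4h.StalkAcyc
import Groth.Agent.Etrest.IntHens
import Groth.Agent.Etrest.SHPoint
import Groth.Agent.S0073
import Mathlib.RingTheory.Henselian
import Mathlib.Data.NNRat.Lemmas

/-!
# Extracting all roots of elements of the maximal ideal of a strictly henselian local ring

`A` a strictly henselian local `k`-algebra, `T i` finitely many elements of its maximal ideal:
`A ⊗_{k[ℕ^C]} k[ℚ≥0^C]` is again strictly henselian local.

* `hpt_spec`: a strictly henselian local ring has the cohomology of a point;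
* `isLocalRing_of_jacobson`: `A` local, every element of `B` is congruent to an element of `A` modulo the
  Jacobson radical of `B`;
* `hpt_root`: `Spec A ×_{k[ℕ^C]} k[ℚ≥0^C]` has the cohomology of a point.
-/

set_option autoImplicit false
universe u

open CategoryTheory CategoryTheory.Limits AlgebraicGeometry IsLocalRing
open scoped TensorProduct

namespace Groth.Agent.Sga7.H180.RootLoc

open Groth.Agent.Sga7.H763 Groth.Agent.Sga4h.StalkAcyc

/-- A strictly henselian local ring has the cohomology of a point. -/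
theorem hpt_spec (R : Type u) [CommRing R] [HenselianLocalRing R] [IsSepClosed (ResidueField R)]
    (n : ℕ) : HPt (Spec (CommRingCat.of R)) n := by
  refine ⟨fun q hq => Groth.Agent.S0073.result R _ q hq, ?_⟩
  have h : _root_.IsPreconnected (Set.univ : Set (PrimeSpectrum R)) := by
    apply isPreconnected_of_forall (IsLocalRing.closedPoint R)
    intro y _
    refine ⟨closure {y}, Set.subset_univ _, ?_, subset_closure rfl, isPreconnected_singleton.closure⟩
    exact (IsLocalRing.specializes_closedPoint y).mem_closure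
  have h1 : PreconnectedSpace (Spec (CommRingCat.of R)) := ⟨h⟩
  have : ConnectedSpace (Spec (CommRingCat.of R)) := ⟨⟨IsLocalRing.closedPoint R⟩⟩
  exact Groth.Agent.Etrest.SHPoint.nonempty_H0_const _ _

section Ring

variable {A B : Type u} [CommRing A] [CommRing B] [Algebra A B]

/-- Elements with a power in the extension of the maximal ideal lie in the Jacobson radical. -/
theorem mem_jacobson_of_pow [IsLocalRing A] [Algebra.IsIntegral A B] {y : B} {N : ℕ} {b : B}
    {t : A} (ht : t ∈ maximalIdeal A) (hy : y ^ N = algebraMap A B t * b) :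
    y ∈ Ideal.jacobson (⊥ : Ideal B) := by
  rw [Ideal.jacobson, Ideal.mem_sInf]
  rintro J ⟨-, hJ⟩
  have h1 : (J.comap (algebraMap A B)).IsMaximal :=
    Ideal.isMaximal_comap_of_isIntegral_of_isMaximal J
  have h2 : J.comap (algebraMap A B) = maximalIdeal A := IsLocalRing.eq_maximalIdeal h1
  have h3 : algebraMap A B t ∈ J := by
    rw [← Ideal.mem_comap, h2]
    exact ht
  refine hJ.isPrime.mem_of_pow_mem N ?_
  rw [hy]
  exact J.mul_mem_right _ h3

theorem isLocalRing_of_jacobson [IsLocalRing A] [Nontrivial B]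
    (h : ∀ b : B, ∃ a : A, b - algebraMap A B a ∈ Ideal.jacobson (⊥ : Ideal B)) : IsLocalRing B := by
  have hJ : Ideal.jacobson (⊥ : Ideal B) ≠ ⊤ := by
    rw [Ne, Ideal.jacobson_eq_top_iff]
    exact bot_ne_top
  have : Nontrivial (B ⧸ Ideal.jacobson (⊥ : Ideal B)) := Ideal.Quotient.nontrivial_iff.2 hJ
  have hs : Function.Surjective ((Ideal.Quotient.mk (Ideal.jacobson (⊥ : Ideal B))).comp
      (algebraMap A B)) := by
    intro x
    obtain ⟨b, rfl⟩ := Ideal.Quotient.mk_surjective x
    obtain ⟨a, ha⟩ := h b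
    exact ⟨a, (Ideal.Quotient.eq.2 ha).symm⟩
  have h1 : IsLocalRing (B ⧸ Ideal.jacobson (⊥ : Ideal B)) := IsLocalRing.of_surjective' _ hs
  have h2 : IsLocalHom (Ideal.Quotient.mk (Ideal.jacobson (⊥ : Ideal B))) :=
    isLocalHom_of_le_jacobson_bot _ le_rfl
  exact (Ideal.Quotient.mk (Ideal.jacobson (⊥ : Ideal B))).domain_isLocalRing

theorem isSepClosed_residue [IsLocalRing A] [IsLocalRing B] [Algebra.IsIntegral A B]
    [IsSepClosed (ResidueField A)]
    (h : ∀ b : B, ∃ a : A, b - algebraMap A B a ∈ Ideal.jacobson (⊥ : Ideal B)) :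
    IsSepClosed (ResidueField B) := by
  have hl : IsLocalHom (algebraMap A B) := by
    refine ((IsLocalRing.local_hom_TFAE (algebraMap A B)).out 0 4).2 ?_
    exact IsLocalRing.eq_maximalIdeal (Ideal.isMaximal_comap_of_isIntegral_of_isMaximal _)
  have hs : Function.Surjective (ResidueField.map (algebraMap A B)) := by
    intro x
    obtain ⟨b, rfl⟩ := residue_surjective x
    obtain ⟨a, ha⟩ := h b
    refine ⟨residue A a, ?_⟩
    rw [ResidueField.map_residue]
    refine (Ideal.Quotient.eq.2 ?_).symm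
    rw [IsLocalRing.jacobson_eq_maximalIdeal ⊥ bot_ne_top] at ha
    exact ha
  exact Groth.Agent.Etrest.SHPoint.isSepClosed_of_ringEquiv
    (RingEquiv.ofBijective _ ⟨(ResidueField.map (algebraMap A B)).injective, hs⟩).symm

end Ring

section Monoid

/-- A common denominator. -/
theorem exists_denom {C : Type} [Fintype C] (q : C → ℚ≥0) :
    ∃ (N : ℕ) (m : C → ℕ), 0 < N ∧ (Nat.castAddMonoidHom ℚ≥0).compLeft C m = N • q := by
  classical
  let N := ∏ j, (q j).den
  have hN : 0 < N := Finset.prod_pos fun j _ => (q j).den_pos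
  have h (i : C) : ∃ c : ℕ, N = (q i).den * c :=
    Finset.dvd_prod_of_mem (fun j => (q j).den) (Finset.mem_univ i)
  choose c hc using h
  refine ⟨N, fun i => c i * (q i).num, hN, ?_⟩
  ext1 i
  change ((c i * (q i).num : ℕ) : ℚ≥0) = N • q i
  rw [nsmul_eq_mul, hc i, Nat.cast_mul, Nat.cast_mul, ← NNRat.mul_den_eq_num (q i)]
  ring

end Monoid

section Root

variable (k : Type u) [Field k] {A : Type u} [CommRing A] [Algebra k A] {C : Type} [Fintype C]
  (T : C → A)

/-- `ℕ^C ⟶ ℚ≥0^C`. -/
abbrev io (C : Type) : (C → ℕ) →+ (C → ℚ≥0) := (Nat.castAddMonoidHom ℚ≥0).compLeft C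

theorem io_injective (C : Type) : Function.Injective (io C) := by
  intro m m' h
  ext i
  exact Nat.cast_injective (R := ℚ≥0) (congrFun h i)

/-- `A` as an algebra over `k[ℕ^C]`. -/
noncomputable abbrev algA : Algebra (AddMonoidAlgebra k (C → ℕ)) A := (Dia.mk k (algebraMap k A) (ToD.mpw T)).toAlgebra

/-- `k[ℚ≥0^C]` as an algebra over `k[ℕ^C]`. -/
noncomputable abbrev algQ (C : Type) : Algebra (AddMonoidAlgebra k (C → ℕ)) (AddMonoidAlgebra k (C → ℚ≥0)) :=
  (Dia.rm k (io C)).toAlgebra

theorem isIntegral_Q (C : Type) [Fintype C] :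
    letI := algQ k C
    Algebra.IsIntegral (AddMonoidAlgebra k (C → ℕ)) (AddMonoidAlgebra k (C → ℚ≥0)) := by
  letI := algQ k C
  refine ⟨fun x => ?_⟩
  induction x using AddMonoidAlgebra.induction_linear with
  | zero => exact isIntegral_zero
  | add f g hf hg => exact hf.add hg
  | single q r =>
    obtain ⟨N, m, hN, hm⟩ := exists_denom q
    refine IsIntegral.of_pow hN ?_
    have : (AddMonoidAlgebra.single q r : AddMonoidAlgebra k (C → ℚ≥0)) ^ N =
        algebraMap (AddMonoidAlgebra k (C → ℕ)) _ (AddMonoidAlgebra.single m (r ^ N)) := by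
      rw [AddMonoidAlgebra.single_pow, ← hm]
      exact (Dia.rm_single k (io C) m _).symm
    rw [this]
    exact isIntegral_algebraMap

variable [IsLocalRing A]

theorem mem_mpw {m : C → ℕ} (hT : ∀ i, T i ∈ maximalIdeal A) (hm : m ≠ 0) :
    ToD.mpw T (Multiplicative.ofAdd m) ∈ maximalIdeal A := by
  obtain ⟨i, hi⟩ : ∃ i, m i ≠ 0 := by
    by_contra h
    push Not at h
    exact hm (funext h)
  rw [ToD.mpw_ofAdd]
  exact Ideal.mem_of_dvd _ (Finset.dvd_prod_of_mem _ (Finset.mem_univ i))
    (Ideal.pow_mem_of_mem _ (hT i) _ (Nat.pos_of_ne_zero hi))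

open Classical in
/-- The character `q ↦ [q = 0]`. -/
noncomputable def chi0 (C : Type) (κ : Type u) [Field κ] : Multiplicative (C → ℚ≥0) →* κ where
  toFun q := if q.toAdd = 0 then 1 else 0
  map_one' := if_pos rfl
  map_mul' q q' := by
    have h : (q * q').toAdd = 0 ↔ q.toAdd = 0 ∧ q'.toAdd = 0 := by
      rw [toAdd_mul]
      constructor
      · intro h
        have h' (i : C) : q.toAdd i = 0 ∧ q'.toAdd i = 0 :=
          (add_eq_zero).1 (congrFun h i)
        exact ⟨funext fun i => (h' i).1, funext fun i => (h' i).2⟩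
      · rintro ⟨h1, h2⟩
        rw [h1, h2, add_zero]
    simp only [h]
    by_cases h1 : q.toAdd = 0 <;> by_cases h2 : q'.toAdd = 0 <;> simp [h1, h2]

omit [Fintype C] in
theorem chi0_ne (κ : Type u) [Field κ] {q : C → ℚ≥0} (h : q ≠ 0) : chi0 C κ (Multiplicative.ofAdd q) = 0 :=
  if_neg h

variable (hT : ∀ i, T i ∈ maximalIdeal A)

include hT

theorem nontrivial_B :
    letI := algA k T
    letI := algQ k C
    Nontrivial (A ⊗[AddMonoidAlgebra k (C → ℕ)] AddMonoidAlgebra k (C → ℚ≥0)) := by
  letI := algA k T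
  letI := algQ k C
  let f : A →ₐ[AddMonoidAlgebra k (C → ℕ)] ResidueField A :=
    { residue A with commutes' := fun _ => rfl }
  have key : (Dia.mk k ((residue A).comp (algebraMap k A)) (chi0 C (ResidueField A))).comp
      (Dia.rm k (io C)) = (residue A).comp (Dia.mk k (algebraMap k A) (ToD.mpw T)) := by
    apply Dia.hom_ext'
    · intro r
      simp only [RingHom.comp_apply, Dia.rm_single, map_zero, Dia.mk_single, ofAdd_zero, map_one,
        mul_one]
    · intro m
      simp only [RingHom.comp_apply, Dia.rm_single, Dia.mk_single, map_one, one_mul]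
      by_cases hm : m = 0
      · subst hm
        rw [map_zero, ofAdd_zero, ofAdd_zero, map_one, map_one, map_one]
      · rw [chi0_ne _ (fun h => hm (io_injective C (h.trans (map_zero _).symm)))]
        exact ((residue_eq_zero_iff _).2 (mem_mpw T hT hm)).symm
  let g : AddMonoidAlgebra k (C → ℚ≥0) →ₐ[AddMonoidAlgebra k (C → ℕ)] ResidueField A :=
    { Dia.mk k ((residue A).comp (algebraMap k A)) (chi0 C (ResidueField A)) with
      commutes' := fun x => RingHom.congr_fun key x }
  exact (Algebra.TensorProduct.lift f g (fun _ _ => Commute.all _ _)).toRingHom.domain_nontrivial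

theorem exists_sub_mem :
    letI := algA k T
    letI := algQ k C
    ∀ b : A ⊗[AddMonoidAlgebra k (C → ℕ)] AddMonoidAlgebra k (C → ℚ≥0), ∃ a : A,
      b - algebraMap A _ a ∈ Ideal.jacobson
        (⊥ : Ideal (A ⊗[AddMonoidAlgebra k (C → ℕ)] AddMonoidAlgebra k (C → ℚ≥0))) := by
  letI := algA k T
  letI := algQ k C
  have hint := isIntegral_Q k C
  intro b
  set J := Ideal.jacobson
        (⊥ : Ideal (A ⊗[AddMonoidAlgebra k (C → ℕ)] AddMonoidAlgebra k (C → ℚ≥0))) with hJ
  have hadd : ∀ b b' : A ⊗[AddMonoidAlgebra k (C → ℕ)] AddMonoidAlgebra k (C → ℚ≥0),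
      (∃ a : A, b - algebraMap A _ a ∈ J) → (∃ a : A, b' - algebraMap A _ a ∈ J) →
      ∃ a : A, b + b' - algebraMap A _ a ∈ J := by
    rintro b b' ⟨a, ha⟩ ⟨a', ha'⟩
    refine ⟨a + a', ?_⟩
    rw [map_add, add_sub_add_comm]
    exact J.add_mem ha ha'
  have hmul : ∀ (a : A) (b : A ⊗[AddMonoidAlgebra k (C → ℕ)] AddMonoidAlgebra k (C → ℚ≥0)),
      (∃ a : A, b - algebraMap A _ a ∈ J) → ∃ a' : A, algebraMap A _ a * b - algebraMap A _ a' ∈ J := by
    rintro a b ⟨a', ha⟩
    refine ⟨a * a', ?_⟩
    rw [map_mul, ← mul_sub]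
    exact J.mul_mem_left _ ha
  have hQ : ∀ x : AddMonoidAlgebra k (C → ℚ≥0),
      ∃ a : A, (1 : A) ⊗ₜ[AddMonoidAlgebra k (C → ℕ)] x - algebraMap A _ a ∈ J := by
    intro x
    induction x using AddMonoidAlgebra.induction_linear with
    | zero =>
      refine ⟨0, ?_⟩
      rw [TensorProduct.tmul_zero, map_zero, sub_zero]
      exact J.zero_mem
    | add f g hf hg =>
      rw [TensorProduct.tmul_add]
      exact hadd _ _ hf hg
    | single q r =>
      by_cases hq : q = 0
      · subst hq
        refine ⟨algebraMap k A r, ?_⟩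
        have h1 : (AddMonoidAlgebra.single 0 r : AddMonoidAlgebra k (C → ℚ≥0)) =
            (AddMonoidAlgebra.single 0 r : AddMonoidAlgebra k (C → ℕ)) • 1 := by
          rw [Algebra.smul_def, mul_one]
          exact (Dia.rm_single k (io C) 0 r).symm
        have h2 : (AddMonoidAlgebra.single 0 r : AddMonoidAlgebra k (C → ℕ)) • (1 : A) =
            algebraMap k A r := by
          rw [Algebra.smul_def, mul_one]
          change Dia.mk k (algebraMap k A) (ToD.mpw T) _ = _
          rw [Dia.mk_single, ofAdd_zero, map_one, mul_one]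
        rw [h1, TensorProduct.tmul_smul, TensorProduct.smul_tmul', h2]
        change algebraMap k A r ⊗ₜ 1 - algebraMap k A r ⊗ₜ 1 ∈ J
        rw [sub_self]
        exact J.zero_mem
      · refine ⟨0, ?_⟩
        rw [map_zero, sub_zero]
        obtain ⟨N, m, hN, hm⟩ := exists_denom q
        have hm0 : m ≠ 0 := by
          rintro rfl
          rw [map_zero] at hm
          have : ∀ i, q i = 0 := fun i => by
            have := congrFun hm.symm i
            rw [Pi.smul_apply, nsmul_eq_mul, Pi.zero_apply, mul_eq_zero] at this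
            refine this.resolve_left ?_
            exact_mod_cast hN.ne'
          exact hq (funext this)
        refine mem_jacobson_of_pow (A := A) (N := N) (b := algebraMap A _ (algebraMap k A (r ^ N)))
          (mem_mpw T hT hm0) ?_
        rw [Algebra.TensorProduct.tmul_pow, one_pow, ← map_mul, AddMonoidAlgebra.single_pow, ← hm]
        have h1 : (AddMonoidAlgebra.single (io C m) (r ^ N) : AddMonoidAlgebra k (C → ℚ≥0)) =
            (AddMonoidAlgebra.single m (r ^ N) : AddMonoidAlgebra k (C → ℕ)) • 1 := by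
          rw [Algebra.smul_def, mul_one]
          exact (Dia.rm_single k (io C) m _).symm
        have h2 : (AddMonoidAlgebra.single m (r ^ N) : AddMonoidAlgebra k (C → ℕ)) • (1 : A) =
            ToD.mpw T (Multiplicative.ofAdd m) * algebraMap k A (r ^ N) := by
          rw [Algebra.smul_def, mul_one]
          change Dia.mk k (algebraMap k A) (ToD.mpw T) _ = _
          rw [Dia.mk_single, mul_comm]
        rw [h1, TensorProduct.tmul_smul, TensorProduct.smul_tmul', h2]
        rfl
  induction b using TensorProduct.induction_on with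
  | zero =>
    refine ⟨0, ?_⟩
    rw [map_zero, sub_zero]
    exact J.zero_mem
  | add x y hx hy => exact hadd _ _ hx hy
  | tmul a x =>
    have : a ⊗ₜ[AddMonoidAlgebra k (C → ℕ)] x =
        algebraMap A (A ⊗[AddMonoidAlgebra k (C → ℕ)] AddMonoidAlgebra k (C → ℚ≥0)) a *
          (1 : A) ⊗ₜ[AddMonoidAlgebra k (C → ℕ)] x := by
      change _ = a ⊗ₜ 1 * 1 ⊗ₜ x
      rw [Algebra.TensorProduct.tmul_mul_tmul, mul_one, one_mul]
    rw [this]
    exact hmul _ _ (hQ x)

end Root

/-- `Spec A ×_{k[ℕ^C]} k[ℚ≥0^C]` has the cohomology of a point. -/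
theorem hpt_root (k : Type u) [Field k] (A : Type u) [CommRing A]
    [HenselianLocalRing A] [IsSepClosed (IsLocalRing.ResidueField A)] [Algebra k A]
    {C : Type} [Fintype C] (T : C → A) (hT : ∀ i, T i ∈ IsLocalRing.maximalIdeal A) (n : ℕ) :
    HPt (pullback (ToD.toD k (ToD.mpw T)) (Dia.Dm k ((Nat.castAddMonoidHom ℚ≥0).compLeft C))) n := by
  letI := algA k T
  letI := algQ k C
  have hint := isIntegral_Q k C
  have h1 := nontrivial_B k T hT
  have h2 := exists_sub_mem k T hT
  have h3 : IsLocalRing (A ⊗[AddMonoidAlgebra k (C → ℕ)] AddMonoidAlgebra k (C → ℚ≥0)) :=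
    isLocalRing_of_jacobson (A := A) h2
  have h4 : IsSepClosed
      (ResidueField (A ⊗[AddMonoidAlgebra k (C → ℕ)] AddMonoidAlgebra k (C → ℚ≥0))) :=
    isSepClosed_residue (A := A) h2
  have h5 : HenselianLocalRing (A ⊗[AddMonoidAlgebra k (C → ℕ)] AddMonoidAlgebra k (C → ℚ≥0)) :=
    Groth.Agent.Etrest.IntHens.henselianLocalRing_of_isIntegral A _
  have e : pullback (ToD.toD k (ToD.mpw T)) (Dia.Dm k (io C)) ≅
      Spec (CommRingCat.of (A ⊗[AddMonoidAlgebra k (C → ℕ)] AddMonoidAlgebra k (C → ℚ≥0))) :=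
    pullbackSpecIso (AddMonoidAlgebra k (C → ℕ)) A (AddMonoidAlgebra k (C → ℚ≥0))
  exact HPt.of_iso e.symm (hpt_spec _ n)

end Groth.Agent.Sga7.H180.RootLoc
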